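/-
helper87: abstract "Heisenberg-type" p-groups (the shape of a Sylow p-subgroup of SL₃(q)), for S5259.
-/
import Mathlib

set_option autoImplicit false

namespace Cfsg.Agent.Lib.Helper87.Heis

/-- `P` is of Heisenberg type with parameter `q`: `|P| = q³`, `|Z(P)| = q`, commutators are central, and the
centralizer of every noncentral element is abelian of order `q²`.  (The unitriangular group `UT₃(q)` is the example.) -/
structure IsHeis (q : ℕ) (P : Type*) [Group P] : Prop where
  card : Nat.card P = q ^ 3
  card_center : Nat.card (Subgroup.center P) = q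
  comm_mem : ∀ x y : P, x * y * x⁻¹ * y⁻¹ ∈ Subgroup.center P
  card_centralizer : ∀ x : P, x ∉ Subgroup.center P → Nat.card (Subgroup.centralizer ({x} : Set P)) = q ^ 2
  comm_centralizer : ∀ x : P, x ∉ Subgroup.center P →
    ∀ a ∈ Subgroup.centralizer ({x} : Set P), ∀ b ∈ Subgroup.centralizer ({x} : Set P), a * b = b * a

/-- Heisenberg type is invariant under isomorphism. -/
theorem IsHeis.of_mulEquiv {q : ℕ} {P P' : Type*} [Group P] [Group P'] (e : P ≃* P') (h : IsHeis q P) :
    IsHeis q P' := by
  have hcen : ∀ y : P', y ∈ Subgroup.center P' ↔ e.symm y ∈ Subgroup.center P := by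
    intro y
    simp only [Subgroup.mem_center_iff]
    constructor
    · intro hy g
      have := hy (e g)
      apply e.injective
      simpa using this
    · intro hy g
      have := hy (e.symm g)
      apply e.symm.injective
      simpa using this
  have hcz : ∀ x y : P', y ∈ Subgroup.centralizer ({x} : Set P') ↔
      e.symm y ∈ Subgroup.centralizer ({e.symm x} : Set P) := by
    intro x y
    simp only [Subgroup.mem_centralizer_iff, Set.mem_singleton_iff, forall_eq]
    constructor
    · intro hy
      rw [← map_mul, ← map_mul, hy]
    · intro hy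
      apply e.symm.injective
      rw [map_mul, map_mul, hy]
  refine ⟨?_, ?_, ?_, ?_, ?_⟩
  · rw [← Nat.card_congr e.toEquiv]; exact h.card
  · rw [← h.card_center]
    refine Nat.card_congr (Equiv.symm ?_)
    exact
      { toFun := fun x => ⟨e x, by rw [hcen]; simp⟩
        invFun := fun y => ⟨e.symm y, (hcen y).1 y.2⟩
        left_inv := fun x => by ext; simp
        right_inv := fun y => by ext; simp }
  · intro x y
    rw [hcen]
    simpa using h.comm_mem (e.symm x) (e.symm y)
  · intro x hx
    rw [← h.card_centralizer (e.symm x) (fun hh => hx ((hcen x).2 hh))]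
    refine Nat.card_congr ?_
    exact
      { toFun := fun y => ⟨e.symm y, (hcz x y).1 y.2⟩
        invFun := fun y => ⟨e y, by rw [hcz]; simp⟩
        left_inv := fun y => by ext; simp
        right_inv := fun y => by ext; simp }
  · intro x hx a ha b hb
    have := h.comm_centralizer (e.symm x) (fun hh => hx ((hcen x).2 hh)) (e.symm a) ((hcz x a).1 ha)
      (e.symm b) ((hcz x b).1 hb)
    apply e.symm.injective
    rw [map_mul, map_mul, this]

end Cfsg.Agent.Lib.Helper87.Heis
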