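/-
helper87: Heisenberg-type p-groups seen inside an ambient group, and their elementary structure (for S5259).
-/
import Cfsg.Agent.Lib.Helper87.Heis.Defs
import Cfsg.Agent.Lib.Helper87.FusionCore
import Cfsg.Agent.Lib.Helper87.OliverIndexP2

set_option autoImplicit false

namespace Cfsg.Agent.Lib.Helper87.Heis

open Cfsg Cfsg.FusionSystem
open Cfsg.Agent.Lib.Helper87

variable {Ω : Type*} [Group Ω] {S : Subgroup Ω}

/-- `C_S(x)` as a subgroup of the ambient group. -/
def CS (S : Subgroup Ω) (x : Ω) : Subgroup Ω := S ⊓ Subgroup.centralizer ({x} : Set Ω)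

theorem mem_CS {x y : Ω} : y ∈ CS S x ↔ y ∈ S ∧ x * y = y * x := by
  unfold CS
  rw [Subgroup.mem_inf, Subgroup.mem_centralizer_iff]
  simp only [Set.mem_singleton_iff, forall_eq]

theorem mem_ZS {x : Ω} : x ∈ centralizerIn S S ↔ x ∈ S ∧ ∀ y ∈ S, y * x = x * y := by
  unfold centralizerIn
  rw [Subgroup.mem_inf, Subgroup.mem_centralizer_iff]
  rfl

/-- The Heisenberg-type hypotheses on `S`, in terms of subgroups of the ambient group. -/
structure HeisData (q : ℕ) (S : Subgroup Ω) : Prop where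
  card : Nat.card S = q ^ 3
  card_center : Nat.card (centralizerIn S S) = q
  comm_mem : ∀ x ∈ S, ∀ y ∈ S, x * y * x⁻¹ * y⁻¹ ∈ centralizerIn S S
  card_cent : ∀ x ∈ S, x ∉ centralizerIn S S → Nat.card (CS S x) = q ^ 2
  comm_cent : ∀ x ∈ S, x ∉ centralizerIn S S → ∀ a ∈ CS S x, ∀ b ∈ CS S x, a * b = b * a

theorem HeisData.of_isHeis {q : ℕ} (h : IsHeis q ↥S) : HeisData q S := by
  have hcen : ∀ z : S, z ∈ Subgroup.center ↥S ↔ (z : Ω) ∈ centralizerIn S S := by
    intro z
    rw [Subgroup.mem_center_iff, mem_ZS]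
    constructor
    · intro hz
      refine ⟨z.2, fun y hy => ?_⟩
      exact congrArg Subtype.val (hz ⟨y, hy⟩)
    · intro hz g
      exact Subtype.ext (hz.2 g g.2)
  have hcz : ∀ x y : S, y ∈ Subgroup.centralizer ({x} : Set ↥S) ↔ (y : Ω) ∈ CS S (x : Ω) := by
    intro x y
    rw [mem_CS, Subgroup.mem_centralizer_iff]
    simp only [Set.mem_singleton_iff, forall_eq]
    constructor
    · intro hy
      exact ⟨y.2, congrArg Subtype.val hy⟩
    · intro hy
      exact Subtype.ext hy.2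
  refine ⟨h.card, ?_, ?_, ?_, ?_⟩
  · rw [← h.card_center]
    refine Nat.card_congr ?_
    exact
      { toFun := fun z => ⟨⟨z.1, z.2.1⟩, (hcen ⟨z.1, z.2.1⟩).2 z.2⟩
        invFun := fun z => ⟨z.1.1, (hcen z.1).1 z.2⟩
        left_inv := fun z => rfl
        right_inv := fun z => rfl }
  · intro x hx y hy
    exact (hcen _).1 (h.comm_mem ⟨x, hx⟩ ⟨y, hy⟩)
  · intro x hx hxZ
    rw [← h.card_centralizer ⟨x, hx⟩ (fun hh => hxZ ((hcen _).1 hh))]
    refine Nat.card_congr ?_
    exact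
      { toFun := fun z => ⟨⟨z.1, (mem_CS.1 z.2).1⟩, (hcz ⟨x, hx⟩ ⟨z.1, (mem_CS.1 z.2).1⟩).2 z.2⟩
        invFun := fun z => ⟨z.1.1, (hcz ⟨x, hx⟩ z.1).1 z.2⟩
        left_inv := fun z => rfl
        right_inv := fun z => rfl }
  · intro x hx hxZ a ha b hb
    have := h.comm_centralizer ⟨x, hx⟩ (fun hh => hxZ ((hcen _).1 hh)) ⟨a, (mem_CS.1 ha).1⟩
      ((hcz ⟨x, hx⟩ ⟨a, (mem_CS.1 ha).1⟩).2 ha) ⟨b, (mem_CS.1 hb).1⟩ ((hcz ⟨x, hx⟩ ⟨b, (mem_CS.1 hb).1⟩).2 hb)
    exact congrArg Subtype.val this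

namespace HeisData

variable {q : ℕ}

theorem q_pos [Finite S] (h : HeisData q S) : 0 < q := by
  have : Finite (centralizerIn S S) := finite_of_le inf_le_left
  rw [← h.card_center]
  exact Nat.card_pos

theorem ZS_le (_h : HeisData q S) : centralizerIn S S ≤ S := inf_le_left

/-- conjugation by `s ∈ S` moves `y ∈ S` by a central factor. -/
theorem conj_eq (h : HeisData q S) {s y : Ω} (hs : s ∈ S) (hy : y ∈ S) :
    ∃ z ∈ centralizerIn S S, s * y * s⁻¹ = z * y :=
  ⟨s * y * s⁻¹ * y⁻¹, h.comm_mem s hs y hy, by group⟩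

/-- a subgroup of `S` containing the centre is normalized by `S`. -/
theorem conj_mem_of_center_le (h : HeisData q S) {E : Subgroup Ω} (hZE : centralizerIn S S ≤ E) {s y : Ω}
    (hs : s ∈ S) (hyS : y ∈ S) (hy : y ∈ E) : s * y * s⁻¹ ∈ E := by
  obtain ⟨z, hz, e⟩ := h.conj_eq hs hyS
  rw [e]
  exact E.mul_mem (hZE hz) hy

/-- `S` is not abelian (for `q > 1`). -/
theorem ZS_ne (h : HeisData q S) [Finite S] (hq : 1 < q) : ∃ x ∈ S, x ∉ centralizerIn S S := by
  by_contra hcon
  push Not at hcon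
  have hle : S ≤ centralizerIn S S := fun x hx => hcon x hx
  have h1 : Nat.card S ≤ Nat.card (centralizerIn S S) := by
    have : Finite (centralizerIn S S) := finite_of_le inf_le_left
    exact Subgroup.card_le_of_le hle
  rw [h.card, h.card_center] at h1
  have : q ^ 1 < q ^ 3 := Nat.pow_lt_pow_right hq (by norm_num)
  rw [pow_one] at this
  omega

/-- The commutator map `s ↦ [s, w]` from `S` onto `Z(S)`, for `w ∈ S` noncentral, is onto. -/
theorem exists_comm_eq (h : HeisData q S) [Finite S] {w : Ω} (hw : w ∈ S) (hwZ : w ∉ centralizerIn S S)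
    {z : Ω} (hz : z ∈ centralizerIn S S) : ∃ s ∈ S, s * w * s⁻¹ = z * w := by
  classical
  have hfinZ : Finite (centralizerIn S S) := finite_of_le inf_le_left
  -- the homomorphism
  let κ : S →* (centralizerIn S S) :=
    { toFun := fun s => ⟨(s : Ω) * w * (s : Ω)⁻¹ * w⁻¹, h.comm_mem s s.2 w hw⟩
      map_one' := by
        apply Subtype.ext
        show (1 : Ω) * w * (1 : Ω)⁻¹ * w⁻¹ = 1
        group
      map_mul' := by
        intro s t
        apply Subtype.ext
        show ((s : Ω) * (t : Ω)) * w * ((s : Ω) * (t : Ω))⁻¹ * w⁻¹ =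
          ((s : Ω) * w * (s : Ω)⁻¹ * w⁻¹) * ((t : Ω) * w * (t : Ω)⁻¹ * w⁻¹)
        have hc := (mem_ZS.1 (h.comm_mem t t.2 w hw)).2
        -- `c = [t, w]` is central in `S`
        set c : Ω := (t : Ω) * w * (t : Ω)⁻¹ * w⁻¹ with hcdef
        have e1 : (t : Ω) * w * (t : Ω)⁻¹ = c * w := by rw [hcdef]; group
        have e2 : (s : Ω) * c = c * (s : Ω) := hc s s.2
        calc ((s : Ω) * (t : Ω)) * w * ((s : Ω) * (t : Ω))⁻¹ * w⁻¹
            = (s : Ω) * ((t : Ω) * w * (t : Ω)⁻¹) * (s : Ω)⁻¹ * w⁻¹ := by group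
          _ = (s : Ω) * (c * w) * (s : Ω)⁻¹ * w⁻¹ := by rw [e1]
          _ = ((s : Ω) * c) * w * (s : Ω)⁻¹ * w⁻¹ := by group
          _ = (c * (s : Ω)) * w * (s : Ω)⁻¹ * w⁻¹ := by rw [e2]
          _ = c * ((s : Ω) * w * (s : Ω)⁻¹ * w⁻¹) := by group
          _ = ((s : Ω) * w * (s : Ω)⁻¹ * w⁻¹) * c := by
            have hd := (mem_ZS.1 (h.comm_mem s s.2 w hw))
            exact (hc _ hd.1).symm }
  have hκ : ∀ s : S, ((κ s : centralizerIn S S) : Ω) = (s : Ω) * w * (s : Ω)⁻¹ * w⁻¹ := fun _ => rfl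
  -- kernel
  have hker : Nat.card κ.ker = q ^ 2 := by
    rw [← h.card_cent w hw hwZ]
    refine Nat.card_congr ?_
    exact
      { toFun := fun s => ⟨(s : S), by
          rw [mem_CS]
          refine ⟨(s : S).2, ?_⟩
          have h1 : κ (s : S) = 1 := s.2
          have h2 := congrArg Subtype.val h1
          rw [hκ] at h2
          have h3 : ((s : S) : Ω) * w * ((s : S) : Ω)⁻¹ * w⁻¹ = 1 := h2
          have h4 : ((s : S) : Ω) * w = w * ((s : S) : Ω) := by
            have := congrArg (fun t => t * w * ((s : S) : Ω)) h3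
            rw [one_mul] at this
            rw [← this]; group
          exact h4.symm⟩
        invFun := fun y => ⟨⟨y.1, (mem_CS.1 y.2).1⟩, by
          rw [MonoidHom.mem_ker]
          apply Subtype.ext
          rw [hκ]
          show (y : Ω) * w * (y : Ω)⁻¹ * w⁻¹ = 1
          rw [← (mem_CS.1 y.2).2]; group⟩
        left_inv := fun s => rfl
        right_inv := fun y => rfl }
  have hrange : Nat.card κ.range = q := by
    have h1 : Nat.card κ.ker * κ.ker.index = Nat.card S := Subgroup.card_mul_index κ.ker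
    rw [Subgroup.index_ker, hker, h.card] at h1
    have hq := h.q_pos
    have : q ^ 2 * Nat.card κ.range = q ^ 2 * q := by rw [h1]; ring
    exact Nat.eq_of_mul_eq_mul_left (by positivity) this
  have htop : κ.range = ⊤ := by
    apply Subgroup.eq_top_of_card_eq
    rw [hrange, h.card_center]
  have : (⟨z, hz⟩ : centralizerIn S S) ∈ κ.range := by rw [htop]; trivial
  obtain ⟨s, hs⟩ := this
  refine ⟨s, s.2, ?_⟩
  have h2 := congrArg Subtype.val hs
  rw [hκ] at h2
  have h3 : (s : Ω) * w * (s : Ω)⁻¹ * w⁻¹ = z := h2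
  rw [← h3]; group

end HeisData

end Cfsg.Agent.Lib.Helper87.Heis
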