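/-
helper87: essential subgroups of a saturated fusion system over a Heisenberg-type p-group are the maximal abelian
subgroups `C_S(x)` (for S5259).
-/
import Cfsg.Agent.Lib.Helper87.Heis.Data
import Cfsg.Agent.Lib.Helper87.OliverAut
import Cfsg.Agent.Lib.Helper87.OliverIndexP
import Cfsg.Agent.Lib.Helper88.FusionEssential
import Cfsg.Agent.Lib.Helper84.Alperin
import Cfsg.Agent.Lib.Helper76.PCore
import Cfsg.Agent.S5080

set_option autoImplicit false

namespace Cfsg.Agent.Lib.Helper87.Heis

open Cfsg Cfsg.FusionSystem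
open Cfsg.Agent.Lib.Helper87

variable {Ω : Type*} [Group Ω] {S : Subgroup Ω} [Finite S] {p : ℕ} [Fact p.Prime] {q : ℕ}

/-- An essential subgroup of a saturated fusion system over a Heisenberg-type group is abelian. -/
theorem HeisData.essential_comm (h : HeisData q S) (hS : IsPGroup p S) (F : FusionSystem S) (hF : F.IsSaturated p)
    {E : Subgroup Ω} (hE : F.IsEssential p E) : ∀ a ∈ E, ∀ b ∈ E, a * b = b * a := by
  by_contra hna
  push Not at hna
  obtain ⟨a, ha, b, hb, hab⟩ := hna
  have hcen : F.IsCentric E := hE.1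
  have hES : E ≤ S := hcen.1
  have hfinE : Finite E := finite_of_le hES
  have hEp : IsPGroup p E := hS.to_le hES
  have hne : E ≠ S := Cfsg.Agent.Lib.Helper88.ne_top_of_essential F hF hE
  have hrad := Cfsg.Agent.S5080.result p hS F hF E hE
  have hZE : centralizerIn S S ≤ E := center_le_of_centric F hcen
  -- the centre of `E` lies in the centre of `S`
  have hcenter : ∀ r : E, r ∈ Subgroup.center ↥E → (r : Ω) ∈ centralizerIn S S := by
    intro r hr
    by_contra hrZ
    have hle : ∀ e ∈ E, e ∈ CS S (r : Ω) := by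
      intro e he
      rw [mem_CS]
      refine ⟨hES he, ?_⟩
      have := (Subgroup.mem_center_iff.1 hr) ⟨e, he⟩
      exact (congrArg Subtype.val this).symm
    exact hab (h.comm_cent (r : Ω) (hES r.2) hrZ a (hle a ha) b (hle b hb))
  set G : Subgroup (MulAut E) := F.autGroup E with hG
  -- every automorphism stabilizes the centre
  have hstab : ∀ α : MulAut E, α ∈ G → α ∈ stabIn G (Subgroup.center ↥E) := by
    intro α hα
    refine ⟨hα, fun y => ?_⟩
    have h1 := Subgroup.characteristic_iff_comap_eq.1 (inferInstance : (Subgroup.center ↥E).Characteristic) α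
    constructor
    · intro hy
      rw [← h1]
      exact hy
    · intro hy
      rw [← h1] at hy
      exact hy
  set N : Subgroup (MulAut E) := stabGroup G (Subgroup.center ↥E) with hN
  have hNG : N ≤ G := stabGroup_le G _
  have hNp : IsPGroup p N := stabGroup_isPGroup hEp G _
  have hTN : autInducedBy S E ≤ N := by
    intro t ht
    obtain ⟨s, hs, hst⟩ := mem_autInducedBy_iff.1 ht
    refine mem_stabGroup_of (autInducedBy_le_autGroup F hES ht) ?_ ?_
    · intro y
      have hc : ((y⁻¹ * t y : E) : Ω) ∈ centralizerIn S S := by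
        have e : ((y⁻¹ * t y : E) : Ω) = (y : Ω)⁻¹ * s * ((y : Ω)⁻¹)⁻¹ * s⁻¹ := by
          rw [Subgroup.coe_mul, hst]
          simp only [Subgroup.coe_inv]
          group
        rw [e]
        exact h.comm_mem _ (S.inv_mem (hES y.2)) s hs
      rw [Subgroup.mem_center_iff]
      intro e
      apply Subtype.ext
      rw [Subgroup.coe_mul, Subgroup.coe_mul]
      exact (mem_ZS.1 hc).2 _ (hES e.2)
    · intro d hd
      apply Subtype.ext
      rw [hst]
      exact conj_center_eq (hcenter d hd) hs
  -- `N` is normal in `G`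
  have hNn : (N.subgroupOf G).Normal := by
    refine ⟨fun n hn g => ?_⟩
    rw [Subgroup.mem_subgroupOf] at hn ⊢
    have := stabGroup_conj_mem (hstab g g.2) hn
    simpa using this
  have hle : N.subgroupOf G ≤ pCore p G :=
    Cfsg.Agent.Lib.Helper76.le_pCore p _ hNn hNp.comap_subtype
  apply Cfsg.Agent.Lib.Helper84.autInducedBy_not_le_inn F hS hcen hne
  intro t ht
  rw [Subgroup.mem_subgroupOf] at ht ⊢
  have h1 : t ∈ N.subgroupOf G := by
    rw [Subgroup.mem_subgroupOf]
    exact hTN ht
  have h2 : (t : MulAut E) ∈ (pCore p G).map G.subtype := ⟨t, hle h1, rfl⟩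
  rw [hrad.2] at h2
  exact h2

/-- An essential subgroup is the centralizer in `S` of any of its noncentral elements. -/
theorem HeisData.essential_eq_CS (h : HeisData q S) (hS : IsPGroup p S) (F : FusionSystem S) (hF : F.IsSaturated p)
    {E : Subgroup Ω} (hE : F.IsEssential p E) {x : Ω} (hxE : x ∈ E) (hxZ : x ∉ centralizerIn S S) :
    E = CS S x := by
  have hcen : F.IsCentric E := hE.1
  have hES : E ≤ S := hcen.1
  have hab := h.essential_comm hS F hF hE
  apply le_antisymm
  · intro e he
    rw [mem_CS]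
    exact ⟨hES he, hab x hxE e he⟩
  · intro c hc
    apply hcen.2 E (isConj_refl F hES)
    refine ⟨(mem_CS.1 hc).1, ?_⟩
    show c ∈ Subgroup.centralizer (E : Set Ω)
    rw [Subgroup.mem_centralizer_iff]
    intro e he
    have he' : e ∈ CS S x := by
      rw [mem_CS]
      exact ⟨hES he, hab x hxE e he⟩
    exact h.comm_cent x (hES hxE) hxZ e he' c hc

/-- An essential subgroup contains a noncentral element (for `q > 1`). -/
theorem HeisData.essential_exists (h : HeisData q S) (hq : 1 < q) (hS : IsPGroup p S) (F : FusionSystem S)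
    (hF : F.IsSaturated p) {E : Subgroup Ω} (hE : F.IsEssential p E) : ∃ x ∈ E, x ∉ centralizerIn S S := by
  have hcen : F.IsCentric E := hE.1
  have hES : E ≤ S := hcen.1
  by_contra hcon
  push Not at hcon
  -- then `E ≤ Z(S)`, so `S = C_S(E) ≤ E`
  obtain ⟨y, hyS, hyZ⟩ := h.ZS_ne hq
  apply hyZ
  apply hcon
  apply hcen.2 E (isConj_refl F hES)
  refine ⟨hyS, ?_⟩
  show y ∈ Subgroup.centralizer (E : Set Ω)
  rw [Subgroup.mem_centralizer_iff]
  intro e he
  exact ((mem_ZS.1 (hcon e he)).2 y hyS).symm

theorem HeisData.essential_card (h : HeisData q S) (hq : 1 < q) (hS : IsPGroup p S) (F : FusionSystem S)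
    (hF : F.IsSaturated p) {E : Subgroup Ω} (hE : F.IsEssential p E) : Nat.card E = q ^ 2 := by
  obtain ⟨x, hxE, hxZ⟩ := h.essential_exists hq hS F hF hE
  rw [h.essential_eq_CS hS F hF hE hxE hxZ]
  exact h.card_cent x (hE.1.1 hxE) hxZ

end Cfsg.Agent.Lib.Helper87.Heis
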