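/-
helper87: the key lemma for S5259: no nontrivial subgroup of `Z(S)` is invariant under `Aut_F(E)` for an essential
subgroup `E` of a saturated fusion system over a Heisenberg-type p-group `S` (an orbit-counting argument).
-/
import Cfsg.Agent.Lib.Helper87.Heis.Essential
import Cfsg.Agent.Lib.Helper87.FusionFully

set_option autoImplicit false
set_option linter.unusedSectionVars false
set_option linter.unusedVariables false

namespace Cfsg.Agent.Lib.Helper87.Heis

open Cfsg Cfsg.FusionSystem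
open Cfsg.Agent.Lib.Helper87

variable {Ω : Type*} [Group Ω] {S : Subgroup Ω} [Finite S] {p : ℕ} [Fact p.Prime] {q : ℕ}

/-- `|Aut_S(E)| = q` for an essential subgroup `E`. -/
theorem HeisData.card_autInducedBy (h : HeisData q S) (hq : 1 < q) (hS : IsPGroup p S) (F : FusionSystem S)
    (hF : F.IsSaturated p) {E : Subgroup Ω} (hE : F.IsEssential p E) : Nat.card (autInducedBy S E) = q := by
  have hcen : F.IsCentric E := hE.1
  have hES : E ≤ S := hcen.1
  have hZE : centralizerIn S S ≤ E := center_le_of_centric F hcen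
  have hab := h.essential_comm hS F hF hE
  have hcardE := h.essential_card hq hS F hF hE
  have hinn : Inn E = ⊥ := by
    rw [eq_bot_iff]
    rintro _ ⟨u, rfl⟩
    rw [Subgroup.mem_bot]
    ext y
    rw [MulAut.conj_apply, MulAut.one_apply]
    have := hab u u.2 y y.2
    rw [Subgroup.coe_mul, Subgroup.coe_mul, this]
    simp
  have hSN : S ⊓ Subgroup.normalizer (E : Set Ω) = S := by
    apply le_antisymm inf_le_left
    intro s hs
    refine ⟨hs, ?_⟩
    show s ∈ Subgroup.normalizer (E : Set Ω)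
    rw [Subgroup.mem_normalizer_iff]
    intro y
    constructor
    · intro hy
      exact h.conj_mem_of_center_le hZE hs (hES hy) hy
    · intro hy
      have h1 := h.conj_mem_of_center_le hZE (S.inv_mem hs) (hES hy) hy
      have e : s⁻¹ * (s * y * s⁻¹) * s⁻¹⁻¹ = y := by group
      rwa [e] at h1
  have h1 := relIndex_autInducedBy S E (fun g hg u hu hh => mem_of_induces_inner F hcen hg.1 hu hh)
  rw [hinn, Subgroup.relIndex_bot_left, hSN] at h1
  rw [h1]
  have h2 := card_mul_relIndex' hES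
  rw [hcardE, h.card] at h2
  have hq0 : 0 < q := by omega
  have : q ^ 2 * E.relIndex S = q ^ 2 * q := by rw [h2]; ring
  exact Nat.eq_of_mul_eq_mul_left (by positivity) this

/-- **Key lemma.** A subgroup of `Z(S)` invariant under `Aut_F(E)`, `E` essential, is trivial. -/
theorem HeisData.invariant_eq_bot (h : HeisData q S) (hq : 1 < q) (hS : IsPGroup p S) (F : FusionSystem S)
    (hF : F.IsSaturated p) {E : Subgroup Ω} (hE : F.IsEssential p E) {Q : Subgroup Ω}
    (hQZ : Q ≤ centralizerIn S S)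
    (hQinv : ∀ α ∈ F.autGroup E, (Q.subgroupOf E).map α.toMonoidHom = Q.subgroupOf E) : Q = ⊥ := by
  classical
  have hp : p.Prime := Fact.out
  have hcen : F.IsCentric E := hE.1
  have hES : E ≤ S := hcen.1
  have hfinE : Finite E := finite_of_le hES
  have hEp : IsPGroup p E := hS.to_le hES
  have hne : E ≠ S := Cfsg.Agent.Lib.Helper88.ne_top_of_essential F hF hE
  have hZE : centralizerIn S S ≤ E := center_le_of_centric F hcen
  have hab := h.essential_comm hS F hF hE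
  have hcardE := h.essential_card hq hS F hF hE
  have hcardT := h.card_autInducedBy hq hS F hF hE
  obtain ⟨-, hfn, hNn, M₀, hM₀⟩ := hE
  let _ : CommGroup E := { (inferInstance : Group E) with
    mul_comm := fun a b => Subtype.ext (hab a a.2 b b.2) }
  -- Sylow data
  obtain ⟨⟨-, R, hR⟩, -⟩ := fullyAutomized_receptive_of_fullyNormalized F hS hF hfn
  have hfinA : Finite (MulAut E) := inferInstance
  have hTG : autInducedBy S E ≤ F.autGroup E := autInducedBy_le_autGroup F hES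
  have hTp : IsPGroup p (autInducedBy S E) := autInducedBy_isPGroup hS E
  have hTmax : ∀ Q' : Subgroup (MulAut E), Q' ≤ (F.autGroup E) → IsPGroup p Q' → (autInducedBy S E) ≤ Q' → Q' = (autInducedBy S E) := by
    intro Q' hQG hQp hTQ
    have h1 : (R : Subgroup (F.autGroup E)) ≤ Q'.subgroupOf (F.autGroup E) := by
      rw [hR]; exact Subgroup.subgroupOf_mono _ hTQ |>.trans le_rfl
    have h2 := R.is_maximal' hQp.comap_subtype h1
    rw [hR] at h2
    have h3 := Subgroup.subgroupOf_inj.1 h2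
    rwa [inf_eq_left.2 hQG, inf_eq_left.2 hTG] at h3
  have hcardR : Nat.card (R : Subgroup (F.autGroup E)) = q := by
    rw [hR, ← hcardT]
    exact Nat.card_congr (Subgroup.subgroupOfEquivOfLe hTG).toEquiv
  obtain ⟨H, hTH, ⟨g, hgG, hgH⟩, hctrl⟩ :=
    Cfsg.Agent.Lib.Helper88.exists_control_subgroup F hS hES hNn M₀ hM₀
  -- a non-inner element of `(autInducedBy S E)`
  have hex : ∃ β ∈ (autInducedBy S E), β ∉ Inn E := by
    by_contra hcon
    push Not at hcon
    apply Cfsg.Agent.Lib.Helper84.autInducedBy_not_le_inn F hS hcen hne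
    intro t ht
    rw [Subgroup.mem_subgroupOf] at ht ⊢
    exact hcon _ ht
  obtain ⟨β, hβT, hβI⟩ := hex
  have hβp : ∃ k : ℕ, β ^ p ^ k = 1 := by
    obtain ⟨k, hk⟩ := hTp ⟨β, hβT⟩
    exact ⟨k, congrArg Subtype.val hk⟩
  have hgβ : g * β * g⁻¹ ∉ (autInducedBy S E) := fun hh => hgH (hctrl g hgG β (hTH hβT) hβI hβp (hTH hh))
  -- the centre of `S` inside `E`
  set ZE : Subgroup E := (centralizerIn S S).subgroupOf E with hZEdef
  have hcardZE : Nat.card ZE = q := by
    rw [← h.card_center]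
    exact Nat.card_congr (Subgroup.subgroupOfEquivOfLe hZE).toEquiv
  -- `(autInducedBy S E)` centralizes `ZE` and `E / ZE`
  have hT1 : ∀ t ∈ (autInducedBy S E), ∀ y : E, y⁻¹ * t y ∈ ZE := by
    intro t ht y
    obtain ⟨s, hs, hst⟩ := mem_autInducedBy_iff.1 ht
    rw [Subgroup.mem_subgroupOf]
    have e : ((y⁻¹ * t y : E) : Ω) = (y : Ω)⁻¹ * s * ((y : Ω)⁻¹)⁻¹ * s⁻¹ := by
      rw [Subgroup.coe_mul, hst]
      simp only [Subgroup.coe_inv]
      group
    rw [e]
    exact h.comm_mem _ (S.inv_mem (hES y.2)) s hs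
  have hT2 : ∀ t ∈ (autInducedBy S E), ∀ d ∈ ZE, t d = d := by
    intro t ht d hd
    obtain ⟨s, hs, hst⟩ := mem_autInducedBy_iff.1 ht
    apply Subtype.ext
    rw [hst]
    exact conj_center_eq (Subgroup.mem_subgroupOf.1 hd) hs
  have hTstab : (autInducedBy S E) ≤ stabGroup (F.autGroup E) ZE := fun t ht => mem_stabGroup_of (hTG ht) (hT1 t ht) (hT2 t ht)
  have hstabT : stabGroup (F.autGroup E) ZE = (autInducedBy S E) :=
    hTmax _ (stabGroup_le _ _) (stabGroup_isPGroup hEp (F.autGroup E) ZE) hTstab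
  have hgstab : g ∉ stabIn (F.autGroup E) ZE := by
    intro hg
    apply hgβ
    rw [← hstabT]
    exact stabGroup_conj_mem hg (hTstab hβT)
  -- now suppose `Q ≠ ⊥`
  by_contra hQ
  obtain ⟨⟨x, hxQ⟩, hx1⟩ := Subgroup.ne_bot_iff_exists_ne_one.1 hQ
  have hx1' : x ≠ 1 := fun hh => hx1 (Subtype.ext hh)
  have hxE : x ∈ E := hZE (hQZ hxQ)
  set Z' : Subgroup E := ZE.map g.toMonoidHom with hZ'
  have hxZE : (⟨x, hxE⟩ : E) ∈ ZE := Subgroup.mem_subgroupOf.2 (hQZ hxQ)
  have hxZ' : (⟨x, hxE⟩ : E) ∈ Z' := by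
    have h1 : (⟨x, hxE⟩ : E) ∈ Q.subgroupOf E := Subgroup.mem_subgroupOf.2 hxQ
    rw [← hQinv g hgG] at h1
    obtain ⟨x', hx', e⟩ := h1
    exact ⟨x', Subgroup.mem_subgroupOf.2 (hQZ (Subgroup.mem_subgroupOf.1 hx')), e⟩
  have hcardZ' : Nat.card Z' = q := by
    rw [hZ', Subgroup.card_map_of_injective (MulEquiv.injective g), hcardZE]
  set U : Subgroup E := ZE ⊔ Z' with hU
  have hZEU : ZE ≤ U := le_sup_left
  have hZ'U : Z' ≤ U := le_sup_right
  -- `U ≠ ⊤`
  have hUne : ∃ v : E, v ∉ U := by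
    by_contra hcon
    push Not at hcon
    let m : ZE × Z' → E := fun ab => (ab.1 : E) * (ab.2 : E)
    have hsurj : Function.Surjective m := by
      intro v
      obtain ⟨a, ha, b, hb, e⟩ := Subgroup.mem_sup.1 (hcon v)
      exact ⟨(⟨a, ha⟩, ⟨b, hb⟩), e⟩
    have hcard : Nat.card (ZE × Z') ≤ Nat.card E := by
      rw [Nat.card_prod, hcardZE, hcardZ', hcardE]
      exact le_of_eq (by ring)
    have hbij := hsurj.bijective_of_nat_card_le hcard
    have e1 : m (⟨⟨x, hxE⟩, hxZE⟩, ⟨(⟨x, hxE⟩ : E)⁻¹, Z'.inv_mem hxZ'⟩) = m (1, 1) := by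
      simp [m]
    have h2 := hbij.1 e1
    have h3 := congrArg (fun ab : ZE × Z' => (((ab.1 : ZE) : E) : Ω)) h2
    exact hx1' h3
  obtain ⟨v, hvU⟩ := hUne
  -- the subgroup `M` of `Aut_F(E)` acting trivially on `E / U`
  let M : Subgroup (MulAut E) :=
    { carrier := {α | α ∈ F.autGroup E ∧ ∀ e : E, e⁻¹ * α e ∈ U}
      one_mem' := ⟨Subgroup.one_mem _, fun e => by simp⟩
      mul_mem' := by
        rintro α γ ⟨hα, hα'⟩ ⟨hγ, hγ'⟩
        refine ⟨Subgroup.mul_mem _ hα hγ, fun e => ?_⟩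
        have : e⁻¹ * (α * γ) e = (e⁻¹ * γ e) * ((γ e)⁻¹ * α (γ e)) := by
          rw [MulAut.mul_apply]; group
        rw [this]
        exact U.mul_mem (hγ' e) (hα' (γ e))
      inv_mem' := by
        rintro α ⟨hα, hα'⟩
        refine ⟨Subgroup.inv_mem _ hα, fun e => ?_⟩
        have : e⁻¹ * α⁻¹ e = ((α⁻¹ e)⁻¹ * α (α⁻¹ e))⁻¹ := by
          rw [MulAut.apply_inv_self]; group
        rw [this]
        exact U.inv_mem (hα' _) }
  have hMG : M ≤ F.autGroup E := fun α hα => hα.1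
  have hTM : ∀ t ∈ autInducedBy S E, t ∈ M := fun t ht => ⟨hTG ht, fun e => hZEU (hT1 t ht e)⟩
  have hT'M : ∀ t ∈ autInducedBy S E, g * t * g⁻¹ ∈ M := by
    intro t ht
    refine ⟨Subgroup.mul_mem _ (Subgroup.mul_mem _ hgG (hTG ht)) (Subgroup.inv_mem _ hgG), fun e => ?_⟩
    have : e⁻¹ * (g * t * g⁻¹) e = g ((g⁻¹ e)⁻¹ * t (g⁻¹ e)) := by
      rw [MulAut.mul_apply, MulAut.mul_apply, map_mul, map_inv, MulAut.apply_inv_self]
    rw [this]
    exact hZ'U ⟨_, hT1 t ht _, rfl⟩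
  have hSN : ∀ s ∈ S, s ∈ Subgroup.normalizer (E : Set Ω) := by
    intro s hs
    rw [Subgroup.mem_normalizer_iff]
    intro y
    constructor
    · intro hy
      exact h.conj_mem_of_center_le hZE hs (hES hy) hy
    · intro hy
      have h1 := h.conj_mem_of_center_le hZE (S.inv_mem hs) (hES hy) hy
      have e : s⁻¹ * (s * y * s⁻¹) * s⁻¹⁻¹ = y := by group
      rwa [e] at h1
  have hmove : ∀ w : E, w ∉ ZE → ∀ a ∈ ZE, ∃ t ∈ autInducedBy S E, t w = a * w := by
    intro w hw a ha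
    have hwZ : (w : Ω) ∉ centralizerIn S S := fun hh => hw (Subgroup.mem_subgroupOf.2 hh)
    obtain ⟨s, hs, hsw⟩ := h.exists_comm_eq (hES w.2) hwZ (Subgroup.mem_subgroupOf.1 ha)
    refine ⟨conjAut E s (hSN s hs), mem_autInducedBy_iff.2 ⟨s, hs, fun _ => rfl⟩, ?_⟩
    apply Subtype.ext
    rw [conjAut_apply, hsw]
    rfl
  have hmove' : ∀ w : E, w ∉ Z' → ∀ b ∈ Z', ∃ t ∈ autInducedBy S E, (g * t * g⁻¹) w = b * w := by
    intro w hw b hb
    obtain ⟨a, ha, rfl⟩ := hb
    have hw' : g⁻¹ w ∉ ZE := fun hh => hw ⟨g⁻¹ w, hh, by simp⟩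
    obtain ⟨t, ht, e⟩ := hmove (g⁻¹ w) hw' a ha
    refine ⟨t, ht, ?_⟩
    rw [MulAut.mul_apply, MulAut.mul_apply, e, map_mul]
    simp
  have horbit : ∀ u ∈ U, ∃ m ∈ M, m v = v * u := by
    intro u hu
    obtain ⟨a, ha, b, hb, rfl⟩ := Subgroup.mem_sup.1 hu
    have hv1 : v ∉ ZE := fun hh => hvU (hZEU hh)
    obtain ⟨t, ht, e1⟩ := hmove v hv1 a ha
    have hw2 : a * v ∉ Z' := by
      intro hh
      apply hvU
      have : v = a⁻¹ * (a * v) := by group
      rw [this]
      exact U.mul_mem (U.inv_mem (hZEU ha)) (hZ'U hh)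
    obtain ⟨t', ht', e2⟩ := hmove' (a * v) hw2 b hb
    refine ⟨(g * t' * g⁻¹) * t, M.mul_mem (hT'M t' ht') (hTM t ht), ?_⟩
    rw [MulAut.mul_apply, e1, e2, mul_comm v, mul_comm a b, mul_assoc]
  -- cardinality of the orbit
  have hcardO : Nat.card (MulAction.orbit M v) = Nat.card U := by
    symm
    let f : U → MulAction.orbit M v := fun u => ⟨v * (u : E), by
      obtain ⟨m, hm, e⟩ := horbit u u.2
      exact ⟨⟨m, hm⟩, e⟩⟩
    refine Nat.card_congr (Equiv.ofBijective f ⟨?_, ?_⟩)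
    · intro u u' huu
      have := congrArg Subtype.val huu
      exact Subtype.ext (mul_left_cancel this)
    · rintro ⟨y, ⟨m, hm⟩, rfl⟩
      refine ⟨⟨v⁻¹ * m v, hm.2 v⟩, ?_⟩
      apply Subtype.ext
      show v * (v⁻¹ * m v) = m v
      group
  have h3 : Nat.card (MulAction.orbit M v) * Nat.card (MulAction.stabilizer M v) = Nat.card M := by
    rw [← Nat.card_prod]
    exact Nat.card_congr (MulAction.orbitProdStabilizerEquivGroup M v)
  have hdvd : Nat.card U ∣ Nat.card (F.autGroup E) := by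
    rw [← hcardO]
    exact (Dvd.intro _ h3).trans (Subgroup.card_dvd_of_le hMG)
  obtain ⟨k, hk⟩ := IsPGroup.iff_card.1 (hEp.to_subgroup U)
  rw [hk] at hdvd
  have h4 := R.pow_dvd_card_of_pow_dvd_card hdvd
  rw [hcardR, ← hk] at h4
  have h5 : Nat.card U ≤ q := Nat.le_of_dvd (by omega) h4
  have hUZ : ZE = U := Subgroup.eq_of_le_of_card_ge hZEU (by rw [hcardZE]; exact h5)
  have hZ'le : Z' ≤ ZE := by rw [hUZ]; exact hZ'U
  have hZ'eq : Z' = ZE := Subgroup.eq_of_le_of_card_ge hZ'le (by rw [hcardZE, hcardZ'])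
  apply hgstab
  refine ⟨hgG, fun y => ⟨fun hy => ?_, fun hy => ?_⟩⟩
  · rw [← hZ'eq] at hy
    obtain ⟨z, hz, e⟩ := hy
    have : z = y := MulEquiv.injective g e
    rw [← this]
    exact hz
  · exact hZ'le ⟨y, hy, rfl⟩

end Cfsg.Agent.Lib.Helper87.Heis
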