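/-
helper87: a saturated fusion system over a Heisenberg-type p-group with `O_p(F) ≠ 1` is constrained (for S5259).
-/
import Cfsg.Agent.Lib.Helper87.Heis.Key
import Cfsg.Agent.Lib.Helper84.Alperin2
import Cfsg.Agent.Lib.Helper85.FusionNormal

set_option autoImplicit false
set_option linter.unusedSectionVars false
set_option linter.unusedVariables false

namespace Cfsg.Agent.Lib.Helper87.Heis

open Cfsg Cfsg.FusionSystem
open Cfsg.Agent.Lib.Helper87 Cfsg.Agent.Lib.Helper84

variable {Ω : Type*} [Group Ω] {S : Subgroup Ω} [Finite S] {p : ℕ} [Fact p.Prime] {q : ℕ}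

omit [Finite S] [Fact p.Prime] in
/-- automorphisms of `S` preserve the centre of `S`. -/
theorem aut_mem_ZS (β : MulAut S) {y : S} (hy : (y : Ω) ∈ centralizerIn S S) : ((β y : S) : Ω) ∈ centralizerIn S S := by
  rw [mem_ZS]
  refine ⟨(β y).2, fun s hs => ?_⟩
  have h1 : (β⁻¹ ⟨s, hs⟩ : S) * y = y * (β⁻¹ ⟨s, hs⟩ : S) :=
    Subtype.ext ((mem_ZS.1 hy).2 _ (β⁻¹ ⟨s, hs⟩ : S).2)
  have h2 := congrArg β h1
  rw [map_mul, map_mul, MulAut.apply_inv_self] at h2
  exact congrArg Subtype.val h2

/-- **Main abstract theorem.** A saturated fusion system over a Heisenberg-type `p`-group with `O_p(F) ≠ 1` is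
constrained. -/
theorem HeisData.isConstrained (h : HeisData q S) (hq : 1 < q) (hS : IsPGroup p S) (F : FusionSystem S)
    (hF : F.IsSaturated p) (hcore : F.core ≠ ⊥) : F.IsConstrained p := by
  refine ⟨hF, ?_⟩
  have hQn : F.IsNormal F.core := Cfsg.Agent.Lib.Helper85.isNormal_core F
  have hQS : F.core ≤ S := hQn.1
  have htop : ∀ (P : Subgroup Ω) (α : MulAut P), (P.subgroupOf P).map α.toMonoidHom = P.subgroupOf P := by
    intro P α
    rw [Subgroup.subgroupOf_self]
    exact Subgroup.map_top_of_surjective _ (MulEquiv.surjective α)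
  by_cases hess : ∃ E, F.IsEssential p E
  · obtain ⟨E, hE⟩ := hess
    have hcen : F.IsCentric E := hE.1
    have hES : E ≤ S := hcen.1
    have hZE : centralizerIn S S ≤ E := center_le_of_centric F hcen
    by_cases hQZ : F.core ≤ centralizerIn S S
    · exfalso
      apply hcore
      exact h.invariant_eq_bot hq hS F hF hE hQZ
        (fun α hα => aut_map_eq_of_isNormal F hQn (hQZ.trans hZE) hES hα)
    · obtain ⟨x, hxQ, hxZ⟩ := SetLike.not_le_iff_exists.1 hQZ
      have hall : ∀ E' : Subgroup Ω, F.IsEssential p E' → F.core ≤ E' := by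
        intro E' hE'
        have hrad := Cfsg.Agent.S5080.result p hS F hF E' hE'
        exact le_of_isNormal_of_centric_radical F hS hQn hE'.1 hrad
      have hall' : ∀ E' : Subgroup Ω, F.IsEssential p E' → E' = CS S x := fun E' hE' =>
        h.essential_eq_CS hS F hF hE' (hall E' hE' hxQ) hxZ
      have hEC : E = CS S x := hall' E hE
      have hab := h.essential_comm hS F hF hE
      refine ⟨E, ?_, hcen⟩
      apply isNormal_of_forall_essential F hS hF E
      rintro P (rfl | hP)
      · refine ⟨hES, fun α hα => ?_⟩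
        have hfinE : Finite (E.subgroupOf P) := inferInstance
        have h1 := aut_map_eq_of_isNormal F hQn hQS le_rfl hα
        -- the image of `x`
        have hx' : α ⟨x, hQS hxQ⟩ ∈ (F.core).subgroupOf P := by
          rw [← h1]
          exact ⟨⟨x, hQS hxQ⟩, Subgroup.mem_subgroupOf.2 hxQ, rfl⟩
        have hx'Q : ((α ⟨x, hQS hxQ⟩ : P) : Ω) ∈ F.core := Subgroup.mem_subgroupOf.1 hx'
        have hx'Z : ((α ⟨x, hQS hxQ⟩ : P) : Ω) ∉ centralizerIn P P := by
          intro hh
          apply hxZ
          have := aut_mem_ZS α⁻¹ hh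
          rwa [MulAut.inv_apply_self] at this
        have hEC' : E = CS P ((α ⟨x, hQS hxQ⟩ : P) : Ω) :=
          h.essential_eq_CS hS F hF hE (hall E hE hx'Q) hx'Z
        have hle : (E.subgroupOf P).map α.toMonoidHom ≤ E.subgroupOf P := by
          rintro _ ⟨e, he, rfl⟩
          have he : (e : Ω) ∈ E := he
          show ((α e : P) : Ω) ∈ E
          rw [hEC', mem_CS]
          refine ⟨(α e).2, ?_⟩
          have h2 : (⟨x, hQS hxQ⟩ : P) * e = e * ⟨x, hQS hxQ⟩ :=
            Subtype.ext (hab x (hall E hE hxQ) e he)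
          have h3 := congrArg α h2
          rw [map_mul, map_mul] at h3
          exact congrArg Subtype.val h3
        refine (Subgroup.eq_of_le_of_card_ge hle ?_)
        rw [Subgroup.card_map_of_injective (MulEquiv.injective α)]
      · have : P = E := (hall' P hP).trans hEC.symm
        subst this
        exact ⟨le_rfl, fun α hα => htop P α⟩
  · push Not at hess
    refine ⟨S, ?_, ?_⟩
    · apply isNormal_of_forall_essential F hS hF S
      rintro P (rfl | hP)
      · exact ⟨le_rfl, fun α hα => htop P α⟩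
      · exact absurd hP (hess P)
    · refine ⟨le_rfl, fun Q' hQ' => ?_⟩
      have hQ'S : Q' ≤ S := IsConj_le_right hQ'
      have : Q' = S := Subgroup.eq_of_le_of_card_ge hQ'S (le_of_eq (IsConj_card_eq hQ'))
      rw [this]
      exact inf_le_left

end Cfsg.Agent.Lib.Helper87.Heis
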